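import Groth.Agent.ThickNode.NonZero
import Groth.Prelude.Def_CInt
import Groth.Agent.GeomProp.SmoothLocal

/-!
A thickness at a point of a curve smooth over a schematically dense open is a non-zero-divisor.
-/

set_option autoImplicit false
set_option linter.style.haveILetI false
set_option backward.isDefEq.respectTransparency false

universe u

open CategoryTheory AlgebraicGeometry IsLocalRing

noncomputable section

namespace Groth.Agent.ThickNode

variable {R : Type u} [CommRing R]

theorem mem_of_radical_ann {U : (Spec (CommRingCat.of R)).Opens} (hU : CInt.IsSchematicallyDense U)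
    (z : R) (hz : z ≠ 0) (p : PrimeSpectrum R) (hp : ∀ q : PrimeSpectrum R, (∀ s, s * z = 0 → s ∈ q.asIdeal) →
      p.asIdeal ≤ q.asIdeal) : (p : Spec (CommRingCat.of R)) ∈ U := by
  by_contra hpU
  let ι := (Scheme.ΓSpecIso (CommRingCat.of R)).inv.hom
  have hι : Function.Injective ι := (Scheme.ΓSpecIso (CommRingCat.of R)).commRingCatIsoToRingEquiv.symm.injective
  refine hz (hι ?_)
  rw [map_zero]
  refine hU ⊤ ?_
  rw [map_zero]
  refine TopCat.Presheaf.section_ext (Spec (CommRingCat.of R)).sheaf _ _ _ fun q hq => ?_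
  rw [map_zero]
  obtain ⟨s, hs, hsq⟩ : ∃ s, s * z = 0 ∧ s ∉ (q : PrimeSpectrum R).asIdeal := by
    by_contra hne
    push Not at hne
    exact hpU ((PrimeSpectrum.le_iff_specializes p q).1 (hp q hne) |>.mem_open U.2 hq.2)
  refine Eq.trans (TopCat.Presheaf.germ_res_apply (Spec (CommRingCat.of R)).presheaf (homOfLE le_top) q hq (ι z)) ?_
  have hu : IsUnit ((Spec (CommRingCat.of R)).presheaf.germ ⊤ q trivial (ι s)) := by
    rw [← Scheme.mem_basicOpen_top, basicOpen_eq_of_affine]
    exact hsq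
  refine hu.mul_right_eq_zero.1 ?_
  rw [← map_mul, ← map_mul, hs, map_zero, map_zero]

theorem smooth_appTop {X : Scheme.{u}} {D : X.Opens} (hD : IsAffineOpen D)
    (f : X ⟶ Spec (CommRingCat.of R)) [Smooth (D.ι ≫ f)] :
    ((X.presheaf.map (homOfLE le_top).op).hom.comp (Coh.toGlobal f) : R →+* Γ(X, D)).Smooth := by
  haveI : IsAffine (D : Scheme.{u}) := hD
  have h := HasRingHomProperty.appTop (P := @Smooth) (D.ι ≫ f) inferInstance
  have h2 := (RingHom.Smooth.respectsIso.1 _ D.topIso.commRingCatIsoToRingEquiv h)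
  have h3 := RingHom.Smooth.respectsIso.2 _ (Scheme.ΓSpecIso (CommRingCat.of R)).commRingCatIsoToRingEquiv.symm h2
  convert h3 using 1 <;> first | rfl | skip
  ext r
  show X.presheaf.map _ (f.appTop _) = D.topIso.hom ((D.ι ≫ f).appTop _)
  rw [Scheme.Hom.comp_appTop, CommRingCat.comp_apply, Scheme.Opens.ι_appTop]
  erw [← ConcreteCategory.comp_apply (X.presheaf.map _) (D.topIso.hom)]
  rw [Scheme.Opens.topIso_hom, ← Functor.map_comp]
  rfl

theorem mem_nonZeroDivisors_of_isThickNode [IsNoetherianRing R] [IsLocalRing R]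
    [IsAdicComplete (maximalIdeal R) R]
    {C : Scheme.{u}} (f : C ⟶ Spec (CommRingCat.of R)) [LocallyOfFiniteType f]
    (U : (Spec (CommRingCat.of R)).Opens) (hU : CInt.IsSchematicallyDense U)
    (hsm : Smooth (morphismRestrict f U)) (c : C) (a : R)
    (hnode : DualGr.IsThickNode (DualGr.stalkHom f c) a) :
    a ∈ nonZeroDivisors R := by
  by_contra ha
  obtain ⟨r, hr0, hr⟩ : ∃ r, r * a = 0 ∧ r ≠ 0 := by
    rw [mem_nonZeroDivisors_iff_right] at ha
    push Not at ha
    exact ha
  obtain ⟨P, hP, hle⟩ := exists_le_isAssociatedPrime_of_isNoetherianRing R r hr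
  obtain ⟨hPp, z, hPz⟩ := hP
  have haP : a ∈ P := hle (by simpa [mul_comm] using hr0)
  have hz : z ≠ 0 := by
    rintro rfl
    exact hPp.ne_top (eq_top_iff.2 fun x _ => hPz ▸ Ideal.le_radical (by simp [Submodule.mem_colon_singleton]))
  have hpU := mem_of_radical_ann hU z hz ⟨P, hPp⟩ fun q hq => by
    show P ≤ _
    rw [hPz]
    refine q.isPrime.radical_le_iff.2 fun s hs => hq s ?_
    simpa [Submodule.mem_colon_singleton] using hs
  haveI : IsLocallyNoetherian C := LocallyOfFiniteType.isLocallyNoetherian f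
  obtain ⟨_, ⟨W, hW, rfl⟩, hcW, -⟩ := C.isBasis_affineOpens.exists_subset_of_mem_open (Set.mem_univ c) isOpen_univ
  obtain ⟨Q, _, hQp, hnr⟩ := exists_not_regular (O := C.presheaf.stalk c) (DualGr.stalkHom f c) a hnode P haP
  refine hnr ?_
  let γ : R →+* Γ(C, W) := (C.presheaf.map (homOfLE le_top).op).hom.comp (Coh.toGlobal f)
  letI : Algebra R Γ(C, W) := γ.toAlgebra
  letI : Algebra Γ(C, W) (C.presheaf.stalk c) := TopCat.Presheaf.algebra_section_stalk C.presheaf ⟨c, hcW⟩
  haveI := hW.isLocalization_stalk ⟨c, hcW⟩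
  have hgerm : ∀ r, algebraMap Γ(C, W) (C.presheaf.stalk c) (γ r) = DualGr.stalkHom f c r := fun r =>
    C.presheaf.germ_res_apply (homOfLE le_top) c hcW _
  let Q₀ : Ideal Γ(C, W) := Q.comap (algebraMap Γ(C, W) (C.presheaf.stalk c))
  have hQ₀ : Q₀.comap γ = P := by
    rw [← hQp]
    ext r
    simp only [Q₀, Ideal.mem_comap, hgerm]
  let x : C := hW.fromSpec ⟨Q₀, inferInstance⟩
  have hxW : x ∈ W := by
    have : x ∈ Set.range hW.fromSpec := ⟨_, rfl⟩
    rwa [hW.range_fromSpec] at this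
  have hfx : f x = (⟨P, hPp⟩ : PrimeSpectrum R) := by
    refine PrimeSpectrum.ext (Ideal.ext fun r => not_iff_not.1 ?_)
    show f x ∈ PrimeSpectrum.basicOpen r ↔ r ∉ P
    rw [← basicOpen_eq_of_affine, ← Scheme.Hom.mem_preimage, Scheme.preimage_basicOpen]
    have : x ∈ C.basicOpen (Coh.toGlobal f r) ↔ x ∈ C.basicOpen (γ r) := by
      show _ ↔ x ∈ C.basicOpen (C.presheaf.map _ _)
      rw [Scheme.basicOpen_res]
      exact ⟨fun h => ⟨hxW, h⟩, fun h => h.2⟩
    refine this.trans ?_
    rw [← hQ₀, Ideal.mem_comap]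
    show (⟨Q₀, inferInstance⟩ : PrimeSpectrum Γ(C, W)) ∈ hW.fromSpec ⁻¹ᵁ C.basicOpen (γ r) ↔ _
    rw [hW.fromSpec_preimage_basicOpen]
    rfl
  have hxU : x ∈ f ⁻¹ᵁ U := by
    show f x ∈ U
    rw [hfx]; exact hpU
  obtain ⟨g, hgle, hxg⟩ := hW.exists_basicOpen_le ⟨x, hxU⟩ hxW
  have hgQ : g ∉ Q₀ := by
    have : (⟨Q₀, inferInstance⟩ : PrimeSpectrum Γ(C, W)) ∈ hW.fromSpec ⁻¹ᵁ C.basicOpen g := hxg
    rwa [hW.fromSpec_preimage_basicOpen] at this
  haveI : Smooth ((C.basicOpen g).ι ≫ f) := by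
    rw [← Scheme.homOfLE_ι C hgle, Category.assoc, ← morphismRestrict_ι]
    haveI := hsm
    infer_instance
  letI : Algebra R Γ(C, C.basicOpen g) :=
    ((C.presheaf.map (homOfLE le_top).op).hom.comp (Coh.toGlobal f)).toAlgebra
  haveI : Algebra.Smooth R Γ(C, C.basicOpen g) :=
    RingHom.smooth_algebraMap.1 (smooth_appTop (hW.basicOpen g) f)
  haveI := hW.isLocalization_basicOpen g
  haveI : IsScalarTower R Γ(C, W) Γ(C, C.basicOpen g) := IsScalarTower.of_algebraMap_eq fun r => by
    show C.presheaf.map _ _ = C.presheaf.map _ (C.presheaf.map _ _)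
    rw [← ConcreteCategory.comp_apply, ← Functor.map_comp]
    rfl
  let S' := Γ(C, C.basicOpen g)
  have hd : Disjoint (Submonoid.powers g : Set Γ(C, W)) Q₀ := by
    rw [Set.disjoint_left]
    rintro _ ⟨n, rfl⟩ hn
    exact hgQ ((show Q₀.IsPrime from inferInstance).mem_of_pow_mem n hn)
  let Q₁ : Ideal S' := Q₀.map (algebraMap Γ(C, W) S')
  haveI : Q₁.IsPrime := IsLocalization.isPrime_of_isPrime_disjoint (Submonoid.powers g) _ _ inferInstance hd
  have hQ₁ : Q₁.comap (algebraMap Γ(C, W) S') = Q₀ :=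
    IsLocalization.under_map_of_isPrime_disjoint (Submonoid.powers g) S' inferInstance hd
  have hreg := GeomProp.isRegularLocalRing_fibLocRing_of_smooth R S' Q₁
  haveI h1 : IsLocalization.AtPrime (Localization.AtPrime Q) Q₀ :=
    IsLocalization.isLocalization_isLocalization_atPrime_isLocalization
      (hW.primeIdealOf ⟨c, hcW⟩).asIdeal.primeCompl _ Q
  haveI h2 : IsLocalization.AtPrime (Localization.AtPrime Q₁) Q₀ := by
    convert IsLocalization.isLocalization_isLocalization_atPrime_isLocalization (Submonoid.powers g)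
      (Localization.AtPrime Q₁) Q₁
    exact hQ₁.symm
  let e := IsLocalization.algEquiv Q₀.primeCompl (Localization.AtPrime Q₁) (Localization.AtPrime Q)
  have hQ₁R : Q₁.comap (algebraMap R S') = P := by
    rw [← hQ₀, IsScalarTower.algebraMap_eq R Γ(C, W) S', ← Ideal.comap_comap, hQ₁]
    rfl
  have hJ : (P.map (DualGr.stalkHom f c)).map (algebraMap _ (Localization.AtPrime Q)) =
      ((Q₁.comap (algebraMap R S')).map (algebraMap R (Localization.AtPrime Q₁))).map e.toRingEquiv.toRingHom := by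
    rw [hQ₁R, Ideal.map_map, Ideal.map_map]
    congr 1
    ext r
    show algebraMap _ (Localization.AtPrime Q) (DualGr.stalkHom f c r) = e (algebraMap R _ r)
    rw [IsScalarTower.algebraMap_apply R S' (Localization.AtPrime Q₁),
      IsScalarTower.algebraMap_apply R Γ(C, W) S',
      ← IsScalarTower.algebraMap_apply Γ(C, W) S' (Localization.AtPrime Q₁), AlgEquiv.commutes, ← hgerm]
    rfl
  haveI := hreg
  exact IsRegularLocalRing.of_ringEquiv (Ideal.quotientEquiv _ _ e.toRingEquiv hJ)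

end Groth.Agent.ThickNode
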