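import Groth.Prelude.Def_DualGr
import Groth.Agent.AdicBasics.Dimension
import Mathlib.RingTheory.AdicCompletion.LocalRing
import Mathlib.RingTheory.AdicCompletion.AsTensorProduct
import Mathlib.RingTheory.Flat.FaithfullyFlat.Algebra
import Mathlib.RingTheory.MvPowerSeries.Substitution
import Mathlib.RingTheory.PowerSeries.Substitution
import Mathlib.RingTheory.PowerSeries.Inverse

/-!
Uniqueness of the thickness ideal of a formal node.
-/

set_option autoImplicit false
set_option linter.unusedSectionVars false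

universe u

open IsLocalRing

noncomputable section

namespace Groth.Agent.ThickNode

section Key

variable {T : Type u} [CommRing T] [IsLocalRing T] [IsNoetherianRing T]

/-- A constant which is a multiple of a series with zero of order exactly one mod `m` vanishes. -/
theorem eq_zero_of_mul_eq_C {f h : PowerSeries T} {b : T}
    (hf0 : PowerSeries.coeff 0 f ∈ maximalIdeal T) (hf1 : IsUnit (PowerSeries.coeff 1 f))
    (hfh : f * h = PowerSeries.C b) : b = 0 := by
  have key : ∀ n j : ℕ, PowerSeries.coeff j h ∈ maximalIdeal T ^ n := by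
    intro n
    induction n with
    | zero => intro j; simp
    | succ n ih =>
      intro j
      induction j using Nat.strong_induction_on with
      | _ j IH =>
        have hj := congrArg (PowerSeries.coeff (j + 1)) hfh
        rw [PowerSeries.coeff_mul, PowerSeries.coeff_succ_C, Finset.Nat.antidiagonal_succ,
          Finset.sum_cons, Finset.sum_map] at hj
        simp only [Function.Embedding.coe_prodMap, Prod.map, Function.Embedding.coeFn_mk,
          Function.Embedding.refl_apply, Nat.succ_eq_add_one] at hj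
        have hsplit : ∑ x ∈ Finset.HasAntidiagonal.antidiagonal j,
            PowerSeries.coeff (x.1 + 1) f * PowerSeries.coeff x.2 h -
            PowerSeries.coeff 1 f * PowerSeries.coeff j h ∈ maximalIdeal T ^ (n + 1) := by
          rw [← Finset.sum_erase_eq_sub (a := ((0, j) : ℕ × ℕ)) (by simp)]
          refine Ideal.sum_mem _ fun x hx => Ideal.mul_mem_left _ _ ?_
          obtain ⟨hne, hmem⟩ := Finset.mem_erase.1 hx
          rw [Finset.HasAntidiagonal.mem_antidiagonal] at hmem
          refine IH _ ?_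
          rcases x with ⟨p, q⟩
          simp only [ne_eq, Prod.mk.injEq, not_and] at hne
          simp only at hmem ⊢
          by_contra hq
          exact hne (by omega) (by omega)
        have h0 : PowerSeries.coeff 0 f * PowerSeries.coeff (j + 1) h ∈
            maximalIdeal T ^ (n + 1) := by
          rw [pow_succ']
          exact Ideal.mul_mem_mul hf0 (ih _)
        have hprod : PowerSeries.coeff 1 f * PowerSeries.coeff j h ∈ maximalIdeal T ^ (n + 1) := by
          have h2 : PowerSeries.coeff 1 f * PowerSeries.coeff j h =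
              -(PowerSeries.coeff 0 f * PowerSeries.coeff (j + 1) h) -
                (∑ x ∈ Finset.HasAntidiagonal.antidiagonal j,
                  PowerSeries.coeff (x.1 + 1) f * PowerSeries.coeff x.2 h -
                    PowerSeries.coeff 1 f * PowerSeries.coeff j h) := by
            linear_combination hj
          rw [h2]
          exact Ideal.sub_mem _ (Ideal.neg_mem_iff _ |>.2 h0) hsplit
        exact (Ideal.unit_mul_mem_iff_mem _ hf1).1 hprod
  have hinf : PowerSeries.coeff 0 h = 0 := by
    have hmem : PowerSeries.coeff 0 h ∈ ⨅ n, maximalIdeal T ^ n :=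
      (Submodule.mem_iInf _).2 fun n => key n 0
    rwa [Ideal.iInf_pow_eq_bot_of_isLocalRing _ (maximalIdeal.isMaximal T).ne_top,
      Ideal.mem_bot] at hmem
  have hb := congrArg (PowerSeries.coeff 0) hfh
  rw [PowerSeries.coeff_zero_C, PowerSeries.coeff_zero_eq_constantCoeff, map_mul,
    ← PowerSeries.coeff_zero_eq_constantCoeff, hinf, mul_zero] at hb
  exact hb.symm

end Key

/-- Every series in two variables is a constant plus multiples of the variables. -/
theorem exists_decomp {S : Type u} [CommRing S] (p : MvPowerSeries (Fin 2) S) :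
    ∃ p1 p2, p = MvPowerSeries.C (MvPowerSeries.constantCoeff p) +
      MvPowerSeries.X 0 * p1 + MvPowerSeries.X 1 * p2 := by
  classical
  let q : MvPowerSeries (Fin 2) S := fun n => if n 0 = 0 then MvPowerSeries.coeff n p else 0
  have hq : ∀ n, MvPowerSeries.coeff n q = if n 0 = 0 then MvPowerSeries.coeff n p else 0 :=
    fun n => rfl
  obtain ⟨p1, hp1⟩ : (MvPowerSeries.X 0 : MvPowerSeries (Fin 2) S) ∣ p - q :=
    MvPowerSeries.X_dvd_iff.2 fun m hm => by rw [map_sub, hq, if_pos hm, sub_self]
  obtain ⟨p2, hp2⟩ : (MvPowerSeries.X 1 : MvPowerSeries (Fin 2) S) ∣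
      q - MvPowerSeries.C (MvPowerSeries.constantCoeff p) := by
    refine MvPowerSeries.X_dvd_iff.2 fun m hm => ?_
    rw [map_sub, hq, MvPowerSeries.coeff_C]
    by_cases h0 : m 0 = 0
    · have : m = 0 := by
        ext i
        fin_cases i <;> simpa
      subst this
      simp [MvPowerSeries.coeff_zero_eq_constantCoeff]
    · have : m ≠ 0 := fun h => h0 (by simp [h])
      rw [if_neg h0, if_neg this, sub_zero]
  exact ⟨p1, p2, by linear_combination hp1 + hp2⟩

variable {R : Type u} [CommRing R] [IsLocalRing R] [IsNoetherianRing R]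

theorem span_le_of_hom (a b : R) (ha : a ∈ maximalIdeal R) (hb : b ∈ maximalIdeal R)
    (E : DualGr.nodeRing R b ≃+* DualGr.nodeRing R a)
    (hE : ∀ r : R, E (Ideal.Quotient.mk _ (MvPowerSeries.C (algebraMap R (Curv2.cpl R) r))) =
      Ideal.Quotient.mk _ (MvPowerSeries.C (algebraMap R (Curv2.cpl R) r))) :
    b ∈ Ideal.span {a} := by
  set i : R →+* Curv2.cpl R := algebraMap R (Curv2.cpl R)
  have hm : maximalIdeal (Curv2.cpl R) = (maximalIdeal R).map i :=
    AdicCompletion.maximalIdeal_eq_map
  have hia : i a ∈ maximalIdeal (Curv2.cpl R) := by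
    rw [hm]; exact Ideal.mem_map_of_mem i ha
  set J : Ideal (Curv2.cpl R) := Ideal.span {i a}
  have hJ : J ≠ ⊤ := fun h => (maximalIdeal.isMaximal _).ne_top
    (top_le_iff.1 (h.ge.trans ((Ideal.span_singleton_le_iff_mem _).2 hia)))
  let T := Curv2.cpl R ⧸ J
  haveI : Nontrivial T := Ideal.Quotient.nontrivial_iff.2 hJ
  haveI : IsLocalRing T :=
    IsLocalRing.of_surjective' (Ideal.Quotient.mk J) Ideal.Quotient.mk_surjective
  haveI : IsLocalHom (Ideal.Quotient.mk J) :=
    IsLocalHom.of_surjective _ Ideal.Quotient.mk_surjective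
  let π : Curv2.cpl R →+* T := Ideal.Quotient.mk J
  let v : Fin 2 → MvPowerSeries Unit T := ![MvPowerSeries.X (), 0]
  have hv : MvPowerSeries.HasSubst v :=
    MvPowerSeries.hasSubst_of_constantCoeff_zero fun s => by fin_cases s <;> simp [v]
  let ψ : MvPowerSeries (Fin 2) (Curv2.cpl R) →ₐ[Curv2.cpl R] PowerSeries T :=
    MvPowerSeries.substAlgHom hv
  have hψC : ∀ s, ψ (MvPowerSeries.C s) = PowerSeries.C (π s) := fun s => by
    have := ψ.commutes s
    rw [MvPowerSeries.algebraMap_apply, MvPowerSeries.algebraMap_apply] at this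
    exact this
  have hψX0 : ψ (MvPowerSeries.X 0) = PowerSeries.X :=
    (MvPowerSeries.substAlgHom_X hv 0).trans rfl
  have hψX1 : ψ (MvPowerSeries.X 1) = 0 := (MvPowerSeries.substAlgHom_X hv 1).trans rfl
  have hψ0 : ∀ p, PowerSeries.constantCoeff (ψ p) = π (MvPowerSeries.constantCoeff p) := fun p => by
    obtain ⟨p1, p2, hp⟩ := exists_decomp p
    conv_lhs => rw [hp]
    simp [hψC, hψX0, hψX1]
  let ψb : DualGr.nodeRing R a →+* PowerSeries T :=
    Ideal.Quotient.lift _ ψ.toRingHom fun x hx => by
      obtain ⟨c, rfl⟩ := Ideal.mem_span_singleton.1 hx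
      have : π (i a) = 0 := Ideal.Quotient.eq_zero_iff_mem.2 (Ideal.subset_span rfl)
      simp [hψX1, hψC, this, i]
  let Φ : MvPowerSeries (Fin 2) (Curv2.cpl R) →+* PowerSeries T :=
    (ψb.comp E.toRingHom).comp (Ideal.Quotient.mk _)
  have hΦC : ∀ r : R, Φ (MvPowerSeries.C (i r)) = PowerSeries.C (π (i r)) := fun r =>
    (congrArg ψb (hE r)).trans (hψC _)
  -- the images of the variables are non-units
  have hnu : ∀ s : Fin 2, PowerSeries.coeff 0 (Φ (MvPowerSeries.X s)) ∈ maximalIdeal T := by
    intro s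
    rw [PowerSeries.coeff_zero_eq_constantCoeff, mem_maximalIdeal, mem_nonunits_iff]
    obtain ⟨p, hp⟩ := Ideal.Quotient.mk_surjective
      (E (Ideal.Quotient.mk _ (MvPowerSeries.X s)))
    have hΦ : Φ (MvPowerSeries.X s) = ψ p := by
      change ψb (E (Ideal.Quotient.mk _ (MvPowerSeries.X s))) = ψ p
      rw [← hp]; rfl
    intro hu
    rw [hΦ, hψ0] at hu
    have hpu : IsUnit p := MvPowerSeries.isUnit_iff_constantCoeff.2 (isUnit_of_map_unit π _ hu)
    have hxu : IsUnit (Ideal.Quotient.mk _ (MvPowerSeries.X s) : DualGr.nodeRing R b) := by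
      have : IsUnit (E (Ideal.Quotient.mk _ (MvPowerSeries.X s))) := hp ▸ hpu.map _
      simpa using this.map E.symm
    obtain ⟨y, hy⟩ := hxu.exists_right_inv
    obtain ⟨y, rfl⟩ := Ideal.Quotient.mk_surjective y
    rw [← map_mul, ← map_one (Ideal.Quotient.mk _), Ideal.Quotient.eq,
      Ideal.mem_span_singleton] at hy
    obtain ⟨c, hc⟩ := hy
    have h0 := congrArg MvPowerSeries.constantCoeff hc
    simp only [map_sub, map_mul, MvPowerSeries.constantCoeff_X, MvPowerSeries.constantCoeff_C,
      map_one, zero_mul, zero_sub] at h0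
    refine (maximalIdeal.isMaximal (Curv2.cpl R)).ne_top ((Ideal.eq_top_iff_one _).2 ?_)
    rw [show (1 : Curv2.cpl R) = i b * MvPowerSeries.constantCoeff c by linear_combination -h0]
    exact Ideal.mul_mem_right _ _ (hm ▸ Ideal.mem_map_of_mem i hb)
  -- one of the variables has unit linear term
  have hXY : Φ (MvPowerSeries.X 0) * Φ (MvPowerSeries.X 1) = PowerSeries.C (π (i b)) := by
    rw [← map_mul, ← hΦC]
    refine congrArg (fun z => ψb (E z)) ?_
    rw [Ideal.Quotient.eq]
    exact Ideal.subset_span rfl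
  let ρ : PowerSeries T →+* PowerSeries (ResidueField T) := PowerSeries.map (residue T)
  have hconst : ∀ s, PowerSeries.coeff 1 (ρ (Φ (MvPowerSeries.C s))) = 0 := by
    intro s
    obtain ⟨z, hz⟩ := (AdicCompletion.residueField_map_bijective R).2 (residue _ s)
    obtain ⟨r, rfl⟩ := residue_surjective z
    rw [ResidueField.map_residue] at hz
    have hs : s - i r ∈ maximalIdeal (Curv2.cpl R) := by
      rw [← residue_eq_zero_iff, map_sub, ← hz, sub_self]
    rw [hm] at hs
    have hle : (maximalIdeal R).map i ≤ RingHom.ker ((ρ.comp Φ).comp MvPowerSeries.C) := by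
      rw [Ideal.map_le_iff_le_comap]
      intro r' hr'
      have : π (i r') ∈ maximalIdeal T := by
        rw [mem_maximalIdeal, mem_nonunits_iff]
        intro hu
        exact (maximalIdeal.isMaximal R).ne_top
          (Ideal.eq_top_of_isUnit_mem _ hr' (isUnit_of_map_unit i _ (isUnit_of_map_unit π _ hu)))
      simp [hΦC, ρ, (residue_eq_zero_iff _).2 this]
    have h := hle hs
    rw [RingHom.mem_ker, map_sub, sub_eq_zero] at h
    simp only [RingHom.coe_comp, Function.comp_apply] at h
    rw [h, hΦC]
    simp [ρ]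
  have hlin : IsUnit (PowerSeries.coeff 1 (Φ (MvPowerSeries.X 0))) ∨
      IsUnit (PowerSeries.coeff 1 (Φ (MvPowerSeries.X 1))) := by
    by_contra hcon
    rw [not_or] at hcon
    obtain ⟨p, hp⟩ := Ideal.Quotient.mk_surjective
      (E.symm (Ideal.Quotient.mk _ (MvPowerSeries.X 0)))
    have hΦp : Φ p = PowerSeries.X := by
      change ψb (E (Ideal.Quotient.mk _ p)) = _
      rw [hp, RingEquiv.apply_symm_apply]
      exact hψX0
    obtain ⟨p1, p2, hd⟩ := exists_decomp p
    have hvar : ∀ (s : Fin 2) (q : MvPowerSeries (Fin 2) (Curv2.cpl R)),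
        ¬ IsUnit (PowerSeries.coeff 1 (Φ (MvPowerSeries.X s))) →
        PowerSeries.coeff 1 (ρ (Φ (MvPowerSeries.X s * q))) = 0 := by
      intro s q hs
      have h0 : residue T (PowerSeries.constantCoeff (Φ (MvPowerSeries.X s))) = 0 :=
        (residue_eq_zero_iff _).2 (PowerSeries.coeff_zero_eq_constantCoeff_apply (Φ _) ▸ hnu s)
      have h1 : residue T (PowerSeries.coeff 1 (Φ (MvPowerSeries.X s))) = 0 :=
        (residue_eq_zero_iff _).2 hs
      rw [map_mul, map_mul, PowerSeries.coeff_mul,
        Finset.Nat.antidiagonal_succ, Finset.sum_cons, Finset.sum_map]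
      simp [ρ, h1, h0]
    have h1 : PowerSeries.coeff 1 (ρ (Φ p)) = 1 := by
      rw [hΦp]
      simp [ρ]
    rw [hd] at h1
    simp only [map_add, hconst, hvar 0 p1 hcon.1, hvar 1 p2 hcon.2] at h1
    simp at h1
  have hb0 : π (i b) = 0 := by
    rcases hlin with h | h
    · exact eq_zero_of_mul_eq_C (hnu 0) h hXY
    · exact eq_zero_of_mul_eq_C (hnu 1) h (by rw [mul_comm]; exact hXY)
  haveI : Module.FaithfullyFlat R (Curv2.cpl R) := Module.FaithfullyFlat.of_flat_of_isLocalHom
  rw [← Ideal.comap_map_eq_self_of_faithfullyFlat (B := Curv2.cpl R) (Ideal.span {a}),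
    Ideal.mem_comap, Ideal.map_span, Set.image_singleton]
  exact Ideal.Quotient.eq_zero_iff_mem.1 hb0

theorem span_eq_of_isThickNode {A : Type u} [CommRing A] [IsLocalRing A] (φ : R →+* A) (a b : R)
    (ha : a ∈ maximalIdeal R) (hb : b ∈ maximalIdeal R) (h₁ : DualGr.IsThickNode φ a)
    (h₂ : DualGr.IsThickNode φ b) : Ideal.span {a} = Ideal.span {b} := by
  obtain ⟨e₁, he₁⟩ := h₁
  obtain ⟨e₂, he₂⟩ := h₂
  refine le_antisymm ((Ideal.span_singleton_le_iff_mem _).2 ?_)
    ((Ideal.span_singleton_le_iff_mem _).2 ?_)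
  · refine span_le_of_hom b a hb ha (e₁.symm.trans e₂) fun r => ?_
    rw [RingEquiv.trans_apply, ← he₁, RingEquiv.symm_apply_apply, he₂]
  · refine span_le_of_hom a b ha hb (e₂.symm.trans e₁) fun r => ?_
    rw [RingEquiv.trans_apply, ← he₂, RingEquiv.symm_apply_apply, he₁]

end Groth.Agent.ThickNode
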