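import Groth.Prelude.Def_DualGr
import Groth.Agent.ThickNode.Unique
import Mathlib.RingTheory.Ideal.GoingDown
import Mathlib.RingTheory.RegularLocalRing.Defs
import Mathlib.Algebra.TrivSqZeroExt.Basic
import Mathlib.RingTheory.AdicCompletion.LocalRing
import Mathlib.RingTheory.AdicCompletion.AsTensorProduct

/-!
A node of thickness in a prime `p` of the base is singular on the fibre over `p`.
-/

set_option autoImplicit false
set_option linter.style.haveILetI false
set_option backward.isDefEq.respectTransparency false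

universe u

open IsLocalRing

noncomputable section

namespace Groth.Agent.ThickNode

section Deriv

variable {S T : Type u} [CommRing S] [CommRing T] (σ : S →+* T)

/-- The first-order data of a two-variable series along the two axes. -/
def firstOrder : MvPowerSeries (Fin 2) S →+* TrivSqZeroExt T (T × T) where
  toFun f := TrivSqZeroExt.inl (σ (MvPowerSeries.constantCoeff f)) + TrivSqZeroExt.inr
    (σ (MvPowerSeries.coeff (Finsupp.single 0 1) f), σ (MvPowerSeries.coeff (Finsupp.single 1 1) f))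
  map_zero' := by
    refine TrivSqZeroExt.ext ?_ ?_ <;> simp
  map_one' := by
    refine TrivSqZeroExt.ext ?_ ?_ <;> simp [MvPowerSeries.coeff_one]
  map_add' f g := by
    refine TrivSqZeroExt.ext ?_ ?_ <;> simp
  map_mul' f g := by
    have key : ∀ s : Fin 2, MvPowerSeries.coeff (Finsupp.single s 1) (f * g) =
        MvPowerSeries.constantCoeff f * MvPowerSeries.coeff (Finsupp.single s 1) g +
          MvPowerSeries.coeff (Finsupp.single s 1) f * MvPowerSeries.constantCoeff g := by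
      intro s
      classical
      rw [MvPowerSeries.coeff_mul, Finsupp.antidiagonal_single, Finset.sum_map,
        Finset.Nat.sum_antidiagonal_succ]
      simp [MvPowerSeries.coeff_zero_eq_constantCoeff]
    refine TrivSqZeroExt.ext ?_ ?_
    · simp
    · refine Prod.ext ?_ ?_ <;> simp [key, mul_comm]

theorem fst_firstOrder (f : MvPowerSeries (Fin 2) S) :
    (firstOrder σ f).fst = σ (MvPowerSeries.constantCoeff f) := by simp [firstOrder]

end Deriv

section Local

variable {R O : Type u} [CommRing R] [IsLocalRing R] [IsNoetherianRing R]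
  [IsAdicComplete (maximalIdeal R) R] [CommRing O] [IsLocalRing O] [IsNoetherianRing O]

theorem not_chain {R T : Type u} [CommRing R] [IsLocalRing R] [IsNoetherianRing R] [CommRing T] (a : R)
    (p : Ideal R) (hap : a ∈ p) (σ : Curv2.cpl R →+* T) (hσ : ∀ r, σ (algebraMap R (Curv2.cpl R) r) = 0 ↔ r ∈ p)
    [Nontrivial T] [IsDomain T] (hR : Function.Surjective (algebraMap R (Curv2.cpl R)))
    (ε₁ : DualGr.nodeRing R a →+* T)
    (hε₁ : ∀ f, ε₁ (Ideal.Quotient.mk _ f) = σ (MvPowerSeries.constantCoeff f))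
    [IsLocalHom ε₁] [IsLocalRing T] [IsLocalRing (DualGr.nodeRing R a)]
    (W₀ W₁ : Ideal (DualGr.nodeRing R a)) [W₀.IsPrime] [W₁.IsPrime] (h₀ : W₀ < W₁) (h₁ : W₁ < RingHom.ker ε₁)
    (hp : ∀ r ∈ p, Ideal.Quotient.mk _ (MvPowerSeries.C (algebraMap R (Curv2.cpl R) r)) ∈ W₀) : False := by
  let X : Fin 2 → DualGr.nodeRing R a := fun s => Ideal.Quotient.mk _ (MvPowerSeries.X s)
  have hxy : X 0 * X 1 ∈ W₀ := by
    have : X 0 * X 1 = Ideal.Quotient.mk _ (MvPowerSeries.C (algebraMap R (Curv2.cpl R) a)) := by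
      show Ideal.Quotient.mk _ _ * Ideal.Quotient.mk _ _ = _
      rw [← map_mul, Ideal.Quotient.eq]
      exact Ideal.subset_span rfl
    rw [this]; exact hp a hap
  obtain ⟨s, hs, hW⟩ : ∃ s, X s ∈ RingHom.ker ε₁ ∧
      ∀ f ∈ RingHom.ker ε₁, ∃ c, f - X s * c ∈ W₀ := by
    have hX : ∀ s, X s ∈ RingHom.ker ε₁ := fun s => by
      show ε₁ (Ideal.Quotient.mk _ _) = 0
      rw [hε₁, MvPowerSeries.constantCoeff_X, map_zero]
    have hdec : ∀ f ∈ RingHom.ker ε₁, ∃ f0 f1, f - (X 0 * f0 + X 1 * f1) ∈ W₀ := by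
      intro f hf
      obtain ⟨m, rfl⟩ := Ideal.Quotient.mk_surjective f
      obtain ⟨p1, p2, hd⟩ := exists_decomp m
      refine ⟨Ideal.Quotient.mk _ p1, Ideal.Quotient.mk _ p2, ?_⟩
      obtain ⟨r, hr⟩ := hR (MvPowerSeries.constantCoeff m)
      have hrp : r ∈ p := (hσ r).1 (by rw [hr, ← hε₁]; exact hf)
      convert hp r hrp using 1
      conv_lhs => rw [hd]
      simp only [X, map_add, map_mul, ← hr]
      ring
    rcases Ideal.IsPrime.mem_or_mem ‹W₀.IsPrime› hxy with h | h
    · refine ⟨1, hX 1, fun f hf => ?_⟩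
      obtain ⟨f0, f1, hf'⟩ := hdec f hf
      refine ⟨f1, ?_⟩
      have := W₀.add_mem hf' (W₀.mul_mem_right f0 h)
      convert this using 1; ring
    · refine ⟨0, hX 0, fun f hf => ?_⟩
      obtain ⟨f0, f1, hf'⟩ := hdec f hf
      refine ⟨f0, ?_⟩
      have := W₀.add_mem hf' (W₀.mul_mem_right f1 h)
      convert this using 1; ring
  have hXW : X s ∉ W₁ := fun h => h₁.not_ge fun f hf => by
    obtain ⟨c, hc⟩ := hW f hf
    simpa using W₁.add_mem (h₀.le hc) (W₁.mul_mem_right c h)
  have hle : W₁ ≤ W₀ := by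
    refine Submodule.le_of_le_smul_of_le_jacobson_bot (I := Ideal.span {X s})
      (IsNoetherian.noetherian _) ?_ ?_
    · refine le_trans ?_ (IsLocalRing.maximalIdeal_le_jacobson _)
      rw [Ideal.span_singleton_le_iff_mem, IsLocalRing.mem_maximalIdeal, mem_nonunits_iff]
      intro hu
      have := hu.map ε₁
      rw [RingHom.mem_ker.1 hs] at this
      exact not_isUnit_zero this
    · intro w hw
      obtain ⟨c, hc⟩ := hW w (h₁.le hw)
      have hc1 : c ∈ W₁ := by
        refine (Ideal.IsPrime.mem_or_mem ‹W₁.IsPrime› ?_).resolve_left hXW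
        simpa using W₁.sub_mem hw (h₀.le hc)
      refine Submodule.mem_sup.2 ⟨_, hc, X s * c, ?_, sub_add_cancel _ _⟩
      exact Submodule.smul_mem_smul (Ideal.mem_span_singleton_self _) hc1
  exact h₀.not_ge hle

/-- The thickness of a node lies in a prime only if the fibre over it is singular somewhere near. -/
theorem exists_not_regular (φ : R →+* O) (a : R) (h : DualGr.IsThickNode φ a) (p : Ideal R) [p.IsPrime]
    (hap : a ∈ p) :
    ∃ (Q : Ideal O) (_ : Q.IsPrime), Q.comap φ = p ∧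
      ¬ IsRegularLocalRing (Localization.AtPrime Q ⧸
        (p.map φ).map (algebraMap O (Localization.AtPrime Q))) := by
  obtain ⟨e, he⟩ := h
  let T := R ⧸ p
  let i : R →+* Curv2.cpl R := algebraMap R (Curv2.cpl R)
  have hi : Function.Bijective i := by
    have := AdicCompletion.of_bijective (maximalIdeal R) R
    convert this using 1
    funext r
    exact rfl
  let iE := RingEquiv.ofBijective i hi
  let σ : Curv2.cpl R →+* T := (Ideal.Quotient.mk p).comp iE.symm.toRingHom
  have hσ : ∀ r, σ (i r) = Ideal.Quotient.mk p r := fun r => by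
    show Ideal.Quotient.mk p (iE.symm (i r)) = _
    rw [show i r = iE r from rfl, RingEquiv.symm_apply_apply]
  have hσs : Function.Surjective σ := Ideal.Quotient.mk_surjective.comp iE.symm.surjective
  haveI : Nontrivial T := Ideal.Quotient.nontrivial_iff.2 ‹p.IsPrime›.ne_top
  haveI : IsLocalRing T := IsLocalRing.of_surjective' (Ideal.Quotient.mk p) Ideal.Quotient.mk_surjective
  let M := MvPowerSeries (Fin 2) (Curv2.cpl R)
  let D₀ : M →+* TrivSqZeroExt T (T × T) := firstOrder σ
  have hrel : ∀ x ∈ Ideal.span {(MvPowerSeries.X 0 * MvPowerSeries.X 1 -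
      MvPowerSeries.C (i a) : M)}, D₀ x = 0 := by
    intro x hx
    obtain ⟨c, rfl⟩ := Ideal.mem_span_singleton.1 hx
    rw [map_mul]
    convert zero_mul _
    have ha : Ideal.Quotient.mk p a = 0 := Ideal.Quotient.eq_zero_iff_mem.2 hap
    refine TrivSqZeroExt.ext ?_ (Prod.ext ?_ ?_) <;>
      simp [D₀, firstOrder, hσ, ha, MvPowerSeries.coeff_mul,
        Finsupp.antidiagonal_single, Finset.Nat.sum_antidiagonal_succ, MvPowerSeries.coeff_X,
        MvPowerSeries.coeff_C, Finsupp.single_eq_single_iff] <;> rfl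
  let D₁ : DualGr.nodeRing R a →+* TrivSqZeroExt T (T × T) := Ideal.Quotient.lift _ D₀ hrel
  let ε₁ : DualGr.nodeRing R a →+* T := (TrivSqZeroExt.fstHom T T (T × T)).toRingHom.comp D₁
  have hε₁ : ∀ f : M, ε₁ (Ideal.Quotient.mk _ f) = σ (MvPowerSeries.constantCoeff f) :=
    fun f => fst_firstOrder σ f
  let g : O →+* DualGr.nodeRing R a := e.toRingHom.comp (algebraMap O (Curv2.cpl O))
  have hg : ∀ r, g (φ r) = Ideal.Quotient.mk _ (MvPowerSeries.C (i r)) := he
  let ε : O →+* T := ε₁.comp g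
  have hεφ : ∀ r, ε (φ r) = Ideal.Quotient.mk p r := fun r => by
    show ε₁ (g (φ r)) = _
    rw [hg, hε₁, MvPowerSeries.constantCoeff_C, hσ]
  let d : O → T × T := fun o => (D₁ (g o)).snd
  let Q : Ideal O := RingHom.ker ε
  haveI hQ : Q.IsPrime := RingHom.ker_isPrime ε
  have hQp : Q.comap φ = p := Ideal.ext fun r => by
    rw [Ideal.mem_comap, RingHom.mem_ker, hεφ, Ideal.Quotient.eq_zero_iff_mem]
  refine ⟨Q, hQ, hQp, fun hreg => ?_⟩
  haveI := hreg
  have hdmul : ∀ x y : O, d (x * y) = ε x • d y + ε y • d x := by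
    intro x y
    show (D₁ (g (x * y))).snd = _
    rw [map_mul, map_mul, TrivSqZeroExt.snd_mul]
    congr 1
    exact op_smul_eq_smul _ _
  have hdφ : ∀ r, d (φ r) = 0 := fun r => by
    show (D₁ (g (φ r))).snd = 0
    rw [hg]
    refine Prod.ext ?_ ?_ <;>
      simp [D₁, D₀, firstOrder, MvPowerSeries.coeff_C, Finsupp.single_eq_zero]
  have hdadd : ∀ x y : O, d (x + y) = d x + d y := fun x y => by
    show (D₁ (g (x + y))).snd = _
    rw [map_add, map_add, TrivSqZeroExt.snd_add]
  have hpO : ∀ w ∈ p.map φ, d w = 0 ∧ ε w = 0 := by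
    intro w hw
    refine Submodule.span_induction (fun v hv => ?_) ⟨?_, map_zero _⟩ (fun v w _ _ hv hw => ?_)
      (fun c v _ hv => ?_) hw
    · obtain ⟨r, hr, rfl⟩ := hv
      exact ⟨hdφ r, (hεφ r).trans (Ideal.Quotient.eq_zero_iff_mem.2 hr)⟩
    · show (D₁ (g 0)).snd = 0
      simp
    · exact ⟨by rw [hdadd, hv.1, hw.1, add_zero], by rw [map_add, hv.2, hw.2, add_zero]⟩
    · exact ⟨by rw [smul_eq_mul, hdmul, hv.1, hv.2, smul_zero, zero_smul, add_zero],
        by rw [smul_eq_mul, map_mul, hv.2, mul_zero]⟩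
  -- elements of `Q` with prescribed first-order data modulo the maximal ideal
  haveI : Nontrivial (DualGr.nodeRing R a) := e.symm.toEquiv.nontrivial
  haveI : IsLocalRing (DualGr.nodeRing R a) :=
    IsLocalRing.of_surjective' e.toRingHom e.surjective
  have hε₁s : Function.Surjective ε₁ := fun t => by
    obtain ⟨s, rfl⟩ := hσs t
    exact ⟨Ideal.Quotient.mk _ (MvPowerSeries.C s), by rw [hε₁, MvPowerSeries.constantCoeff_C]⟩
  haveI : IsLocalHom ε₁ := IsLocalHom.of_surjective _ hε₁s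
  have happ : ∀ x : DualGr.nodeRing R a, ε₁ x = 0 → ∃ q ∈ Q,
      (d q - (D₁ x).snd).1 ∈ maximalIdeal T ∧ (d q - (D₁ x).snd).2 ∈ maximalIdeal T := by
    intro x hx
    obtain ⟨o, ho⟩ := Ideal.Quotient.mk_surjective (AdicCompletion.eval (maximalIdeal O) O 2 (e.symm x))
    have h2 : e.symm x - algebraMap O (Curv2.cpl O) o ∈ maximalIdeal (Curv2.cpl O) ^ 2 := by
      have hk : e.symm x - algebraMap O (Curv2.cpl O) o ∈
          (maximalIdeal O) ^ 2 • (⊤ : Submodule O (Curv2.cpl O)) := by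
        rw [AdicCompletion.pow_smul_top_eq_ker_eval (IsNoetherian.noetherian _), LinearMap.mem_ker,
          map_sub, ← ho, sub_eq_zero]
        rfl
      rw [Ideal.smul_top_eq_map, Submodule.restrictScalars_mem] at hk
      rw [AdicCompletion.maximalIdeal_eq_map, ← Ideal.map_pow]
      exact hk
    have h2' : x - g o ∈ maximalIdeal (DualGr.nodeRing R a) ^ 2 := by
      have h3 := Ideal.mem_map_of_mem e.toRingHom h2
      rw [Ideal.map_pow] at h3
      refine Ideal.pow_right_mono ?_ 2 (show x - g o ∈ _ by simpa [g] using h3)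
      exact IsLocalRing.map_maximalIdeal_le _
    have hsq : ∀ z ∈ maximalIdeal (DualGr.nodeRing R a) ^ 2,
        ε₁ z ∈ maximalIdeal T ∧ (D₁ z).snd.1 ∈ maximalIdeal T ∧ (D₁ z).snd.2 ∈ maximalIdeal T := by
      intro z hz
      rw [sq] at hz
      refine Submodule.mul_induction_on hz (fun u hu v hv => ?_) (fun u v hu hv => ?_)
      · have hu' : (D₁ u).fst ∈ maximalIdeal T := IsLocalRing.map_maximalIdeal_le ε₁ (Ideal.mem_map_of_mem _ hu)
        have hv' : (D₁ v).fst ∈ maximalIdeal T := IsLocalRing.map_maximalIdeal_le ε₁ (Ideal.mem_map_of_mem _ hv)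
        refine ⟨?_, ?_, ?_⟩
        · show (D₁ (u * v)).fst ∈ _
          rw [map_mul, TrivSqZeroExt.fst_mul]
          exact Ideal.mul_mem_right _ _ hu'
        all_goals
          rw [map_mul, TrivSqZeroExt.snd_mul, op_smul_eq_smul]
          exact Ideal.add_mem _ (Ideal.mul_mem_right _ _ hu') (Ideal.mul_mem_right _ _ hv')
      · simp only [map_add, TrivSqZeroExt.snd_add, Prod.fst_add, Prod.snd_add]
        exact ⟨Ideal.add_mem _ hu.1 hv.1, Ideal.add_mem _ hu.2.1 hv.2.1, Ideal.add_mem _ hu.2.2 hv.2.2⟩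
    obtain ⟨r, hr⟩ := Ideal.Quotient.mk_surjective (ε o)
    refine ⟨o - φ r, by rw [RingHom.mem_ker, map_sub, hεφ, hr, sub_self], ?_⟩
    have hd : d (o - φ r) - (D₁ x).snd = -(D₁ (x - g o)).snd := by
      have := hdadd (o - φ r) (φ r)
      rw [sub_add_cancel, hdφ, add_zero] at this
      rw [← this, map_sub, TrivSqZeroExt.snd_sub, neg_sub]
    rw [hd]
    exact ⟨(Submodule.neg_mem_iff _).2 (hsq _ h2').2.1, (Submodule.neg_mem_iff _).2 (hsq _ h2').2.2⟩
  obtain ⟨q₀, hq₀, h₀₁, h₀₂⟩ := happ (Ideal.Quotient.mk _ (MvPowerSeries.X 0))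
    (by rw [hε₁, MvPowerSeries.constantCoeff_X, map_zero])
  obtain ⟨q₁, hq₁, h₁₁, h₁₂⟩ := happ (Ideal.Quotient.mk _ (MvPowerSeries.X 1))
    (by rw [hε₁, MvPowerSeries.constantCoeff_X, map_zero])
  have hdet : IsUnit ((d q₀).1 * (d q₁).2 - (d q₀).2 * (d q₁).1) := by
    have e00 : (D₁ (Ideal.Quotient.mk _ (MvPowerSeries.X 0))).snd = (1, 0) := by
      refine Prod.ext ?_ ?_ <;>
        simp [D₁, D₀, firstOrder, MvPowerSeries.coeff_X, Finsupp.single_eq_single_iff]
    have e11 : (D₁ (Ideal.Quotient.mk _ (MvPowerSeries.X 1))).snd = (0, 1) := by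
      refine Prod.ext ?_ ?_ <;>
        simp [D₁, D₀, firstOrder, MvPowerSeries.coeff_X, Finsupp.single_eq_single_iff]
    rw [e00] at h₀₁ h₀₂
    rw [e11] at h₁₁ h₁₂
    simp only [Prod.fst_sub, Prod.snd_sub, sub_zero] at h₀₁ h₀₂ h₁₁ h₁₂
    rw [← residue_ne_zero_iff_isUnit, map_sub, map_mul, map_mul,
      (residue_eq_zero_iff _).2 h₀₂, (residue_eq_zero_iff _).2 h₁₁]
    have a1 : residue T (d q₀).1 = 1 := by
      rw [← sub_eq_zero, ← map_one (residue T), ← map_sub]; exact (residue_eq_zero_iff _).2 h₀₁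
    have a2 : residue T (d q₁).2 = 1 := by
      rw [← sub_eq_zero, ← map_one (residue T), ← map_sub]; exact (residue_eq_zero_iff _).2 h₁₂
    simp [a1, a2]
  -- dimension at most one
  let J : Ideal O := p.map φ
  let L := Localization.AtPrime Q ⧸ J.map (algebraMap O (Localization.AtPrime Q))
  let q : O →+* L := (Ideal.Quotient.mk _).comp (algebraMap O (Localization.AtPrime Q))
  have hdim : ringKrullDim L ≤ 1 := by
    letI : Algebra O (DualGr.nodeRing R a) := g.toAlgebra
    haveI : Module.Flat O (DualGr.nodeRing R a) :=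
      Module.Flat.of_linearEquiv
        ({ e.toAddEquiv with
           map_smul' := fun c z => by
            show e (c • z) = c • e z
            rw [Algebra.smul_def, map_mul]; rfl } : Curv2.cpl O ≃ₗ[O] DualGr.nodeRing R a).symm
    let P' : Ideal (DualGr.nodeRing R a) := RingHom.ker ε₁
    haveI : P'.IsPrime := RingHom.ker_isPrime ε₁
    refine iSup_le fun l => ?_
    by_contra hl
    have hl2 : 2 ≤ l.length := by
      by_contra hlt
      have : l.length ≤ 1 := by omega
      exact hl (by exact_mod_cast this)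
    let P : Fin 3 → Ideal O := fun k => (l ⟨k, by omega⟩).asIdeal.comap q
    have hqinj : ∀ A B : PrimeSpectrum L, A < B → A.asIdeal.comap q < B.asIdeal.comap q := by
      intro A B hAB
      refine lt_of_le_of_ne (Ideal.comap_mono hAB.le) fun heq => hAB.ne ?_
      refine PrimeSpectrum.ext ?_
      have h1 := congrArg (Ideal.map (algebraMap O (Localization.AtPrime Q))) heq
      rw [← Ideal.comap_comap, ← Ideal.comap_comap, IsLocalization.map_comap Q.primeCompl,
        IsLocalization.map_comap Q.primeCompl] at h1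
      exact Ideal.comap_injective_of_surjective _ Ideal.Quotient.mk_surjective h1
    have h01 : P 0 < P 1 := hqinj _ _ (l.strictMono (show (⟨0, _⟩ : Fin (l.length + 1)) < ⟨1, _⟩ from Nat.zero_lt_one))
    have h12 : P 1 < P 2 := hqinj _ _ (l.strictMono (show (⟨1, _⟩ : Fin (l.length + 1)) < ⟨2, _⟩ from Nat.lt_succ_self 1))
    have hJ0 : J ≤ P 0 := by
      intro w hw
      have : q w = 0 := Ideal.Quotient.eq_zero_iff_mem.2 (Ideal.mem_map_of_mem _ hw)
      show q w ∈ (l ⟨0, by omega⟩).asIdeal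
      rw [this]
      exact Ideal.zero_mem _
    haveI : ∀ k, (P k).IsPrime := fun k => Ideal.comap_isPrime q (l ⟨k, by omega⟩).asIdeal
    have hPQ : P 2 ≤ Q := by
      intro w hw
      by_contra hwQ
      refine (l ⟨2, by omega⟩).isPrime.ne_top (Ideal.eq_top_of_isUnit_mem _ hw ?_)
      exact (IsLocalization.map_units (Localization.AtPrime Q) (⟨w, hwQ⟩ : Q.primeCompl)).map (Ideal.Quotient.mk (J.map (algebraMap O (Localization.AtPrime Q))))
    haveI : P'.LiesOver Q := ⟨rfl⟩
    obtain ⟨W₂, hW₂, _, _⟩ := Ideal.exists_ideal_le_liesOver_of_le (q := Q) P' hPQ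
    obtain ⟨W₁, hW₁, _, _⟩ := Ideal.exists_ideal_lt_liesOver_of_lt (q := P 2) W₂ h12
    obtain ⟨W₀, hW₀, _, hl0⟩ := Ideal.exists_ideal_lt_liesOver_of_lt (q := P 1) W₁ h01
    refine not_chain a p hap σ (fun r => by rw [hσ, Ideal.Quotient.eq_zero_iff_mem]) hi.2 ε₁ hε₁ W₀ W₁
      hW₀ (hW₁.trans_le hW₂) fun r hr => ?_
    have : φ r ∈ P 0 := hJ0 (Ideal.mem_map_of_mem φ hr)
    rw [Ideal.over_def W₀ (P 0), Ideal.mem_comap] at this
    show _ ∈ W₀
    rw [← hg r]
    exact this
  -- a single generator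
  obtain ⟨t, ht⟩ : ∃ t : L, maximalIdeal L = Ideal.span {t} := by
    have h1 : (maximalIdeal L).spanFinrank ≤ 1 := by
      have := IsRegularLocalRing.spanFinrank_maximalIdeal (R := L)
      rw [← this] at hdim
      exact_mod_cast hdim
    have hfg := IsNoetherian.noetherian (maximalIdeal L)
    have hspan := Submodule.span_generators (maximalIdeal L)
    have hfin := hfg.finite_generators
    have hcard : (maximalIdeal L).generators.ncard ≤ 1 := by
      rw [hfg.generators_ncard]; exact h1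
    rcases (Set.ncard_le_one_iff_eq hfin).1 hcard with h0 | ⟨t, h0⟩
    · exact ⟨0, by rw [← hspan, h0, Submodule.span_empty, Ideal.span_singleton_eq_bot.2 rfl]⟩
    · exact ⟨t, by rw [← hspan, h0]⟩
  obtain ⟨t', rfl⟩ := Ideal.Quotient.mk_surjective t
  obtain ⟨⟨t₀, s₀⟩, rfl⟩ := IsLocalization.mk'_surjective Q.primeCompl t'
  have hu0 : IsUnit (q s₀) := (IsLocalization.map_units (Localization.AtPrime Q) s₀).map (Ideal.Quotient.mk (J.map (algebraMap O (Localization.AtPrime Q))))
  have hts : Ideal.Quotient.mk _ (IsLocalization.mk' (Localization.AtPrime Q) t₀ s₀) * q s₀ = q t₀ := by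
    show _ * Ideal.Quotient.mk _ (algebraMap O _ s₀) = Ideal.Quotient.mk _ (algebraMap O _ t₀)
    rw [← map_mul, IsLocalization.mk'_spec]
  have hm : maximalIdeal L = Ideal.span {q t₀} := by
    rw [ht, ← hts, Ideal.span_singleton_mul_right_unit hu0]
  have hnotu : ∀ w ∈ Q, q w ∈ maximalIdeal L := fun w hw => by
    haveI : IsLocalHom (Ideal.Quotient.mk (J.map (algebraMap O (Localization.AtPrime Q)))) :=
      IsLocalHom.of_surjective _ Ideal.Quotient.mk_surjective
    refine IsLocalRing.map_maximalIdeal_le (Ideal.Quotient.mk _) (Ideal.mem_map_of_mem _ ?_)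
    exact (IsLocalization.AtPrime.to_map_mem_maximal_iff _ Q w).2 hw
  have ht₀ : ε t₀ = 0 := by
    show t₀ ∈ Q
    by_contra hc
    have hu : IsUnit (q t₀) := (IsLocalization.map_units (Localization.AtPrime Q) (⟨t₀, hc⟩ : Q.primeCompl)).map (Ideal.Quotient.mk (J.map (algebraMap O (Localization.AtPrime Q))))
    exact (maximalIdeal.isMaximal L).ne_top (by rw [hm, Ideal.span_singleton_eq_top]; exact hu)
  have hline : ∀ x ∈ Q, ∃ u c : T, u ≠ 0 ∧ u • d x = c • d t₀ := by
    intro x hx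
    have h1 := hnotu x hx
    rw [hm, Ideal.mem_span_singleton] at h1
    obtain ⟨c, hc⟩ := h1
    obtain ⟨c', rfl⟩ := Ideal.Quotient.mk_surjective c
    obtain ⟨⟨o, s⟩, rfl⟩ := IsLocalization.mk'_surjective Q.primeCompl c'
    have h2 : q (x * s - t₀ * o) = 0 := by
      rw [map_sub, map_mul, map_mul, hc, mul_assoc, sub_eq_zero]
      congr 1
      show _ * Ideal.Quotient.mk _ (algebraMap O _ (s : O)) = Ideal.Quotient.mk _ (algebraMap O _ o)
      rw [← map_mul, IsLocalization.mk'_spec]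
    rw [show q (x * s - t₀ * o) = Ideal.Quotient.mk _ (algebraMap O _ (x * s - t₀ * o)) from rfl,
      Ideal.Quotient.eq_zero_iff_mem,
      IsLocalization.algebraMap_mem_map_algebraMap_iff Q.primeCompl] at h2
    obtain ⟨s', hs', h3⟩ := h2
    have hne : ∀ z : O, z ∉ Q → ε z ≠ 0 := fun z hz => hz
    refine ⟨ε s' * ε s, ε s' * ε o, mul_ne_zero (hne _ hs') (hne _ s.2), ?_⟩
    have h4 := (hpO _ h3).1
    have hsub : ∀ y z : O, d (y - z) = d y - d z := fun y z => by
      rw [eq_sub_iff_add_eq, ← hdadd, sub_add_cancel]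
    have hεx : ε x = 0 := hx
    rw [hdmul, hsub, hdmul, hdmul, map_sub, map_mul, map_mul, hεx, ht₀] at h4
    simpa [smul_sub, smul_smul, sub_eq_zero] using h4
  obtain ⟨u₀, c₀, hu₀, e₀⟩ := hline q₀ hq₀
  obtain ⟨u₁, c₁, hu₁, e₁⟩ := hline q₁ hq₁
  have h5 : u₀ * u₁ * ((d q₀).1 * (d q₁).2 - (d q₀).2 * (d q₁).1) = 0 := by
    have f1 : u₀ * (d q₀).1 = c₀ * (d t₀).1 := congrArg Prod.fst e₀
    have f2 : u₀ * (d q₀).2 = c₀ * (d t₀).2 := congrArg Prod.snd e₀
    have f3 : u₁ * (d q₁).1 = c₁ * (d t₀).1 := congrArg Prod.fst e₁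
    have f4 : u₁ * (d q₁).2 = c₁ * (d t₀).2 := congrArg Prod.snd e₁
    linear_combination (u₁ * (d q₁).2) * f1 + (c₀ * (d t₀).1) * f4 - (u₁ * (d q₁).1) * f2 - (c₀ * (d t₀).2) * f3
  rcases mul_eq_zero.1 h5 with h | h
  · exact (mul_ne_zero hu₀ hu₁) h
  · exact hdet.ne_zero h

end Local

end Groth.Agent.ThickNode
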